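import Groth.Agent.FlatMor67.RpushAffine
import Groth.Agent.DCX42.TildePC
import Groth.Agent.DR39.Restrict
import Groth.Agent.DCX42.Affine

/-!
Pseudo-coherence on affine opens and along the direct image of an affine morphism.
-/

set_option autoImplicit false
set_option backward.isDefEq.respectTransparency.types false
set_option linter.style.haveILetI false
set_option linter.unusedSectionVars false
set_option maxHeartbeats 800000

noncomputable section

universe u

open CategoryTheory Limits AlgebraicGeometry TopologicalSpace DerivedCategory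
open Groth.Agent.DCX42 Groth.Agent.RelPCSch41
attribute [local instance] HasDerivedCategory.standard

namespace Groth.Agent.PerfDesc24

variable {W X Y Z : Scheme.{u}}

/-- The direct image along an isomorphism is restriction along the inverse. -/
def pushIsoEquiv (e : W ≅ Z) : W.Modules ≌ Z.Modules :=
  CategoryTheory.Equivalence.mk (Scheme.Modules.pushforward e.hom) (Scheme.Modules.pushforward e.inv)
    ((Scheme.Modules.pushforwardId W).symm ≪≫ Scheme.Modules.pushforwardCongr e.hom_inv_id.symm ≪≫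
      (Scheme.Modules.pushforwardComp e.hom e.inv).symm)
    (Scheme.Modules.pushforwardComp e.inv e.hom ≪≫ Scheme.Modules.pushforwardCongr e.inv_hom_id ≪≫
      Scheme.Modules.pushforwardId Z)

/-- The direct image along an isomorphism is restriction along the inverse. -/
def pushIsoRestr (e : W ≅ Z) : Scheme.Modules.pushforward e.hom ≅ Scheme.Modules.restrictFunctor e.inv :=
  (pushIsoEquiv e).toAdjunction.leftAdjointUniq (Scheme.Modules.restrictAdjunction e.inv)

theorem nonempty_pushD_iso_resD (e : W ≅ Z) (K : DCoh.D W) :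
    Nonempty ((pushD e.hom).obj K ≅ (resD e.inv).obj K) := by
  let C : CochainComplex W.Modules ℤ := Q.objPreimage K
  exact ⟨(pushD e.hom).mapIso (rep K).symm ≪≫ pushQ e.hom C ≪≫
    Q.mapIso ((NatIso.mapHomologicalComplex (pushIsoRestr e) (ComplexShape.up ℤ)).app C) ≪≫
    (resQ e.inv C).symm ≪≫ (resD e.inv).mapIso (rep K)⟩

/-- The two affine charts of an object agree. -/
theorem nonempty_chart {U : X.Opens} (hU : IsAffineOpen U) (K : DCoh.D X) :
    Nonempty ((pushD hU.isoSpec.hom).obj ((resD U.ι).obj K) ≅ (resD hU.fromSpec).obj K) := by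
  obtain ⟨e⟩ := nonempty_pushD_iso_resD hU.isoSpec ((resD U.ι).obj K)
  exact ⟨e ≪≫ (resDComp hU.isoSpec.inv U.ι).app K⟩

/-- Pseudo-coherence tested on affine opens of an affine cover. -/
theorem isPC_of_affine (K : DCoh.D X) {m : ℤ}
    (h : ∀ x : X, ∃ (U : X.Opens) (hU : IsAffineOpen U), x ∈ U ∧
      DCoh.IsPseudoCoherentD m ((resD hU.fromSpec).obj K)) : DCoh.IsPseudoCoherentD m K :=
  isPC_of_cover K fun x => by
    obtain ⟨U, hU, hx, hK⟩ := h x
    exact ⟨_, hU.fromSpec, inferInstance, by rw [hU.range_fromSpec]; exact hx, hK⟩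

/-- `Rf_* O = f_* O` for an affine morphism. -/
theorem nonempty_Rpush_structure (f : X ⟶ Y) [IsAffineHom f] [DCoh.HasRpush f] :
    Nonempty ((DCoh.Rpush f).obj (DCoh.inD X (Coh.structureModule X)) ≅
      DCoh.inD Y ((Scheme.Modules.pushforward f).obj (Coh.structureModule X))) := by
  let S : CochainComplex X.Modules ℤ :=
    (HomologicalComplex.single X.Modules (ComplexShape.up ℤ) 0).obj (Coh.structureModule X)
  have hq : ∀ n, Coh.IsQCoh (S.X n) := fun n => by
    by_cases hn : n = 0
    · subst hn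
      exact QC70.isQuasicoherent_of_iso
        (HomologicalComplex.singleObjXSelf (ComplexShape.up ℤ) 0 (Coh.structureModule X)).symm
        (inferInstanceAs (SheafOfModules.unit X.ringCatSheaf).IsQuasicoherent)
    · exact QC70.isQuasicoherent_of_isZero (HomologicalComplex.isZero_single_obj_X (ComplexShape.up ℤ) 0 _ n hn)
  let eS : Q.obj S ≅ DCoh.inD X (Coh.structureModule X) :=
    ((singleFunctorIsoCompQ X.Modules 0).app (Coh.structureModule X)).symm
  let eg : Q.obj ((pushC f).obj S) ≅ (DCoh.Rpush f).obj (Q.obj S) :=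
    @asIso _ _ _ _ ((PropPush72.αu f).app ((HomotopyCategory.quotient _ (ComplexShape.up ℤ)).obj S))
      (QCohPush72.isIso_unit_affineHom f S hq)
  exact ⟨(DCoh.Rpush f).mapIso eS.symm ≪≫ eg.symm ≪≫
    Q.mapIso ((HomologicalComplex.singleMapHomologicalComplex (Scheme.Modules.pushforward f) (ComplexShape.up ℤ) 0).app
      (Coh.structureModule X)) ≪≫ ((singleFunctorIsoCompQ Y.Modules 0).app _).symm⟩

/-- The structure sheaf on an affine chart is the tilde of the ring. -/
theorem nonempty_chart_structure {U : X.Opens} (hU : IsAffineOpen U) :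
    Nonempty ((tildeD (CommRingCat.of Γ(X, U))).obj (Dual.inD Γ(X, U) Γ(X, U)) ≅
      (resD hU.fromSpec).obj (DCoh.inD X (Coh.structureModule X))) :=
  ⟨((tilde.functor (CommRingCat.of Γ(X, U))).mapDerivedCategorySingleFunctor 0).app _ ≪≫
    (singleFunctor _ 0).mapIso (tildeSelf ≪≫ (Scheme.Modules.restrictUnitIso hU.fromSpec).symm) ≪≫
    (((Scheme.Modules.restrictFunctor hU.fromSpec).mapDerivedCategorySingleFunctor 0).app _).symm⟩

/-- Pseudo-coherence is tested after direct image along a finite morphism. -/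
theorem isPC_Rpush_iff (f : X ⟶ Y) [IsAffineHom f] [DCoh.HasRpush f]
    (hO : ∀ m : ℤ, DCoh.IsPseudoCoherentD m (DCoh.inD Y ((Scheme.Modules.pushforward f).obj (Coh.structureModule X))))
    (E : DCoh.D X) (hE : DCoh.IsQCohD E) (m : ℤ) :
    DCoh.IsPseudoCoherentD m E ↔ DCoh.IsPseudoCoherentD m ((DCoh.Rpush f).obj E) := by
  have key : ∀ (V : Y.Opens) (hV : IsAffineOpen V),
      (DCoh.IsPseudoCoherentD m ((resD (hV.preimage f).fromSpec).obj E) ↔
        DCoh.IsPseudoCoherentD m ((resD hV.fromSpec).obj ((DCoh.Rpush f).obj E))) := by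
    intro V hV
    obtain ⟨M, ⟨e⟩⟩ := FlatMor67.RpushAffine.exists_model_open (hV.preimage f) hE
    obtain ⟨e'⟩ := FlatMor67.RpushAffine.nonempty_model_push f hV M e
    obtain ⟨c⟩ := nonempty_chart (hV.preimage f) E
    obtain ⟨c'⟩ := nonempty_chart hV ((DCoh.Rpush f).obj E)
    obtain ⟨e₁⟩ := nonempty_chart_structure (hV.preimage f)
    obtain ⟨c₁⟩ := nonempty_chart (hV.preimage f) (DCoh.inD X (Coh.structureModule X))
    obtain ⟨e₁'⟩ := FlatMor67.RpushAffine.nonempty_model_push f hV _ (e₁ ≪≫ c₁.symm)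
    obtain ⟨c₁'⟩ := nonempty_chart hV ((DCoh.Rpush f).obj (DCoh.inD X (Coh.structureModule X)))
    obtain ⟨r⟩ := nonempty_Rpush_structure f
    have hB : ∀ n, DR39.PC n (Dual.inD Γ(Y, V)
        ((ModuleCat.restrictScalars (f.app V).hom).obj (ModuleCat.of Γ(X, f ⁻¹ᵁ V) Γ(X, f ⁻¹ᵁ V)))) := fun n =>
      ((isPC_tildeD_iff Γ(Y, V) _ n).1 (isPC_of_iso (e₁' ≪≫ c₁' ≪≫ (resD hV.fromSpec).mapIso r).symm
        (DCX42.isPC_resD (hO n) hV.fromSpec))).of_iso
        (((ModuleCat.restrictScalars (f.app V).hom).mapDerivedCategorySingleFunctor 0).app _)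
    exact ((Iff.trans ⟨isPC_of_iso (e ≪≫ c).symm, isPC_of_iso (e ≪≫ c)⟩ (isPC_tildeD_iff Γ(X, f ⁻¹ᵁ V) M m)).trans
      (DR39.pc_restrict_iff (f.app V).hom hB M m)).trans
      ((isPC_tildeD_iff Γ(Y, V) _ m).symm.trans ⟨isPC_of_iso (e' ≪≫ c'), isPC_of_iso (e' ≪≫ c').symm⟩)
  constructor
  · intro h
    refine isPC_of_affine _ fun y => ?_
    obtain ⟨V, hV, hy, -⟩ := exists_isAffineOpen_mem_and_subset (x := y) (U := (⊤ : Y.Opens)) trivial
    exact ⟨V, hV, hy, (key V hV).1 (DCX42.isPC_resD h _)⟩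
  · intro h
    refine isPC_of_affine _ fun x => ?_
    obtain ⟨V, hV, hx, -⟩ := exists_isAffineOpen_mem_and_subset (x := f x) (U := (⊤ : Y.Opens)) trivial
    exact ⟨f ⁻¹ᵁ V, hV.preimage f, hx, (key V hV).2 (DCX42.isPC_resD h _)⟩

end Groth.Agent.PerfDesc24
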