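import Groth.Agent.PerfDesc24.CxApprox
import Groth.Agent.QCohPush72.QCRep
import Groth.Agent.QC70.CohOps
import Groth.Agent.QC70.Closure
import Groth.Agent.QC70.Coherent
import Groth.Agent.Serre69.Lifts
import Groth.Agent.QCqs72.Basic
import Groth.Agent.S10848
import Groth.Agent.DCX42.Der

/-!
Bounded objects with coherent cohomology extend from open subschemes of Noetherian schemes.
-/

set_option autoImplicit false
set_option backward.isDefEq.respectTransparency.types false
set_option linter.style.haveILetI false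
set_option linter.unusedSectionVars false

noncomputable section

universe u

open CategoryTheory Limits AlgebraicGeometry TopologicalSpace DerivedCategory
open Groth.Agent.QC70

attribute [local instance] HasDerivedCategory.standard

namespace Groth.Agent.PerfDesc24

variable {X : Scheme.{u}}

/-- A coherent quotient of a quasi-coherent module is the image of a coherent submodule. -/
theorem exists_coh_lift [CompactSpace X] [QuasiSeparatedSpace X] {M N : X.Modules} (π : M ⟶ N) [Epi π]
    (hM : Coh.IsQCoh M) (hN : Coh.IsCoh N) :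
    ∃ (L : X.Modules) (i : L ⟶ M), Mono i ∧ Coh.IsCoh L ∧ Epi (i ≫ π) := by
  classical
  haveI : M.IsQuasicoherent := hM
  haveI := hN.1
  haveI := hN.2
  obtain ⟨α, _, W, -, hW⟩ := Serre69.exists_finite_affine_cover (U := (⊤ : X.Opens)) isCompact_univ
  have hS : (ShortComplex.mk (kernel.ι π) π (kernel.condition π)).ShortExact :=
    { exact := ShortComplex.exact_of_f_is_kernel _ (kernelIsKernel _)
      mono_f := (inferInstance : Mono (kernel.ι π))
      epi_g := (inferInstance : Epi π) }
  haveI := isQuasicoherent_kernel π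
  have hfin : ∀ k, ∃ T : Finset Γ(N, (W k).1), Submodule.span Γ(X, (W k).1) (T : Set Γ(N, (W k).1)) = ⊤ :=
    fun k => by
      haveI : Module.Finite Γ(X, (W k).1) Γ(N, (W k).1) := finite_sections_of_isFiniteType N (W k).2
      exact (Module.finite_def.1 ‹_› : (⊤ : Submodule Γ(X, (W k).1) Γ(N, (W k).1)).FG)
  choose T hT using hfin
  choose s hs using fun q : Σ k, ↥(T k) =>
    app_surjective_of_isAffineOpen (ShortComplex.mk (kernel.ι π) π (kernel.condition π)) hS (W q.1).2 (q.2 : Γ(N, (W q.1).1))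
  obtain ⟨L, i, hi, hLq, hLf, hL⟩ := Serre69.exists_ft_sub M (κ := Σ k, ↥(T k)) (fun q => W q.1) s
  refine ⟨L, i, hi, ⟨hLq, hLf⟩, epi_of_locally_surjective _ fun V z p hp => ?_⟩
  obtain ⟨k, hk⟩ := Opens.mem_iSup.1 (hW (show p ∈ (⊤ : X.Opens) from trivial))
  let R : Submodule Γ(X, (W k).1) Γ(N, (W k).1) :=
    { carrier := Set.range ((i ≫ π).app (W k).1)
      add_mem' := by rintro _ _ ⟨a, rfl⟩ ⟨b, rfl⟩; exact ⟨a + b, map_add ((i ≫ π).app (W k).1).hom a b⟩
      zero_mem' := ⟨0, map_zero ((i ≫ π).app (W k).1).hom⟩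
      smul_mem' := by rintro c _ ⟨a, rfl⟩; exact ⟨c • a, Scheme.Modules.Hom.app_smul (i ≫ π) c a⟩ }
  have hR : R = ⊤ := eq_top_iff.2 ((hT k).ge.trans (Submodule.span_le.2 fun t ht => by
    obtain ⟨t', ht'⟩ := hL ⟨k, ⟨t, ht⟩⟩
    refine ⟨t', ?_⟩
    rw [Scheme.Modules.Hom.comp_app, ConcreteCategory.comp_apply, ht']
    exact hs ⟨k, ⟨t, ht⟩⟩))
  obtain ⟨r, hrV, hpr⟩ := (W k).2.exists_basicOpen_le ⟨p, hp⟩ hk
  obtain ⟨n, u, hu⟩ := (isLocAt_of_isQuasicoherent N (W k).2).exists_of r (res N hrV z)
  have hu' : IsUnit (resO X (X.basicOpen_le r) r ^ n) := (RingedSpace.isUnit_res_basicOpen _ r).pow n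
  obtain ⟨c, hc⟩ := hu'.exists_left_inv
  obtain ⟨y, hy⟩ : ∃ y, (i ≫ π).app (W k).1 y = u := hR.ge (Submodule.mem_top (x := u))
  refine ⟨X.basicOpen r, hrV, c • res L (X.basicOpen_le r) y, hpr, ?_⟩
  rw [Scheme.Modules.Hom.app_smul, app_res, hy, hu, smul_smul]
  exact (congrArg (· • _) hc).trans (one_smul _ _)

/-- A map which is an epimorphism onto a finite type module over an open is so on a coherent submodule. -/
theorem exists_coh_lift_open [IsNoetherian X] (U : X.Opens) {M N : X.Modules} (π : M ⟶ N)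
    (hM : Coh.IsQCoh M) (hN : Coh.IsCoh (N.restrict U.ι))
    [Epi ((Scheme.Modules.restrictFunctor U.ι).map π)] :
    ∃ (L : X.Modules) (i : L ⟶ M), Coh.IsCoh L ∧ Epi ((Scheme.Modules.restrictFunctor U.ι).map (i ≫ π)) := by
  haveI : M.IsQuasicoherent := hM
  haveI : Coh.IsQCoh M := hM
  haveI hMU : Coh.IsQCoh (M.restrict U.ι) := inferInstanceAs (M.restrict U.ι).IsQuasicoherent
  haveI : CompactSpace (U : Scheme.{u}) := isCompact_iff_compactSpace.1 (NoetherianSpace.isCompact _)
  haveI : IsNoetherian (U : Scheme.{u}) := {}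
  obtain ⟨F', i', hi', hF', hepi⟩ := exists_coh_lift ((Scheme.Modules.restrictFunctor U.ι).map π) hMU hN
  haveI : Coh.IsQCoh F' := hF'.1
  obtain ⟨F, i, e, -, hFq, hFf, he⟩ := S10848.result U (NoetherianSpace.isCompact _) M F' hF'.2 i'
  refine ⟨F, i, ⟨hFq, hFf⟩, ?_⟩
  rw [Functor.map_comp, ← he, Category.assoc]
  exact epi_comp e.hom _

/-- Bounded objects with coherent cohomology extend from open subschemes of a Noetherian scheme. -/
theorem exists_coh_extension [IsNoetherian X] (U : X.Opens) (F : DCoh.D (U : Scheme.{u})) (hF : DCoh.IsCohD F)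
    (a b : ℤ) [F.IsGE a] [F.IsLE b] :
    ∃ (G : CochainComplex X.Modules ℤ) (a' b' : ℤ), DCoh.IsCohD (DCoh.toD X G) ∧ (DCoh.toD X G).IsGE a' ∧
      (DCoh.toD X G).IsLE b' ∧ Nonempty (Q.obj ((DCoh.restrictCx U).obj G) ≅ F) := by
  haveI : CompactSpace (U : Scheme.{u}) := isCompact_iff_compactSpace.1 (NoetherianSpace.isCompact _)
  obtain ⟨KU, hKU, ⟨eU⟩⟩ := QCohPush72.exists_qc_rep F (fun i => (hF i).1) a
  let j := U.ι
  let R := Scheme.Modules.restrictFunctor j
  let Rc := R.mapHomologicalComplex (ComplexShape.up ℤ)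
  let K₀ : CochainComplex X.Modules ℤ := ((Scheme.Modules.pushforward j).mapHomologicalComplex (ComplexShape.up ℤ)).obj KU
  let e₀ : Rc.obj K₀ ≅ KU := HomologicalComplex.Hom.isoOfComponents
    (fun n => (asIso (Scheme.Modules.restrictAdjunction j).counit).app (KU.X n))
    (fun n m _ => ((Scheme.Modules.restrictAdjunction j).counit.naturality (KU.d n m)).symm)
  have hK₀ : ∀ n, ((Scheme.Modules.pushforward j).obj (KU.X n)).IsQuasicoherent := fun n =>
    haveI : (KU.X n).IsQuasicoherent := hKU n
    QCqs72.isQuasicoherent_pushforward (M := KU.X n) j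
  haveI : ∀ n, (K₀.X n).IsQuasicoherent := hK₀
  let K : CochainComplex X.Modules ℤ := K₀.truncLE b
  have hK : ∀ n, (K.X n).IsQuasicoherent := fun n => by
    rcases lt_trichotomy n b with hn | rfl | hn
    · exact isQuasicoherent_of_iso (K₀.truncLEXIso b n hn).symm (hK₀ n)
    · haveI := isQuasicoherent_kernel (K₀.d n (n + 1))
      exact isQuasicoherent_of_iso
        (IsLimit.conePointUniqueUpToIso (kernelIsKernel _) (K₀.cyclesIsKernel n (n + 1) (by simp)) ≪≫
          (K₀.truncLEXIsoCycles n).symm) this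
    · exact isQuasicoherent_of_isZero (K.isZero_of_isStrictlyLE b n hn)
  haveI : ∀ n, (K.X n).IsQuasicoherent := hK
  have hhU : ∀ i, R.obj (K₀.homology i) ≅ DCoh.HD F i := fun i =>
    ((K₀.sc i).mapHomologyIso R).symm ≪≫ (HomologicalComplex.homologyFunctor _ _ i).mapIso e₀ ≪≫
      ((DerivedCategory.homologyFunctorFactors _ i).app KU).symm ≪≫ (DerivedCategory.homologyFunctor _ i).mapIso eU
  have hKb : ∀ i, b < i → IsZero (K.homology i) := fun i hi =>
    HomologicalComplex.ExactAt.isZero_homology (HomologicalComplex.ExactAt.of_isZero (K.isZero_of_isStrictlyLE b i hi))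
  have hι : ∀ i, IsIso (R.map (HomologicalComplex.homologyMap (K₀.ιTruncLE b) i)) := fun i => by
    by_cases hi : i ≤ b
    · haveI : QuasiIsoAt (K₀.ιTruncLE b) i :=
        HomologicalComplex.quasiIsoAt_ιTruncLE (K := K₀) (e := ComplexShape.embeddingUpIntLE b)
          (j := (b - i).toNat) (by simp; omega)
      haveI : IsIso (HomologicalComplex.homologyMap (K₀.ιTruncLE b) i) := (quasiIsoAt_iff_isIso_homologyMap _ _).1 ‹_›
      infer_instance
    · exact (R.map_isZero (hKb i (by omega))).isIso ((DerivedCategory.isZero_of_isLE F b i (by omega)).of_iso (hhU i)) _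
  have hKU' : ∀ i, Coh.IsCoh (R.obj (K.homology i)) := fun i =>
    isCoh_of_iso ((@asIso _ _ _ _ _ (hι i) ≪≫ hhU i).symm) (hF i)
  let C : X.Modules → Prop := fun M => Coh.IsCoh M
  have hcyc : ∀ (G : CochainComplex X.Modules ℤ), (∀ i, C (G.X i)) → ∀ i, C (G.cycles i) := fun G hG i =>
    isCoh_of_iso (IsLimit.conePointUniqueUpToIso (kernelIsKernel _) (G.cyclesIsKernel i (i + 1) (by simp)))
      (isCoh_kernel _ (hG i) (hG (i + 1)).1)
  have h₁ : ∀ (p n : ℤ) (Z : X.Modules) (ψ : Z ⟶ K.X n), C Z → ∃ (L : X.Modules) (i : L ⟶ pullback (K.d p n) ψ),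
      C L ∧ Epi (i ≫ Abelian.factorThruImage (pullback.snd (K.d p n) ψ)) := by
    intro p n Z ψ hZ
    haveI := hZ.1
    have hbq : (K.X p ⊞ Z).IsQuasicoherent := by
      exact isQuasicoherent_X₂ (ShortComplex.mk (biprod.inl : K.X p ⟶ K.X p ⊞ Z) biprod.snd (by simp))
        (ShortComplex.Splitting.ofHasBinaryBiproduct (K.X p) Z).shortExact
    have hP : (pullback (K.d p n) ψ).IsQuasicoherent := by
      haveI hk := isQuasicoherent_kernel (biprod.desc (K.d p n) (-ψ))
      let hl := Abelian.PullbackToBiproductIsKernel.isLimitPullbackToBiproduct (K.d p n) ψ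
      let e := IsLimit.conePointUniqueUpToIso (kernelIsKernel (biprod.desc (K.d p n) (-ψ))) hl
      exact isQuasicoherent_of_iso e hk
    haveI := hP
    haveI hImg := isQuasicoherent_abelianImage (pullback.snd (K.d p n) ψ)
    haveI : Z.IsFiniteType := hZ.2
    obtain ⟨L, i, -, hL, he⟩ := exists_coh_lift (Abelian.factorThruImage (pullback.snd (K.d p n) ψ)) hP
      (isCoh_of_mono (Abelian.image.ι (pullback.snd (K.d p n) ψ)) hImg hZ)
    exact ⟨L, i, hL, he⟩
  have h₂ : ∀ n, ∃ (L : X.Modules) (c : L ⟶ K.cycles n), C L ∧ Epi (R.map (c ≫ K.homologyπ n)) := by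
    intro n
    haveI := isQuasicoherent_kernel (K.d n (n + 1))
    exact exists_coh_lift_open U (K.homologyπ n) (isQuasicoherent_of_iso
      (IsLimit.conePointUniqueUpToIso (kernelIsKernel _) (K.cyclesIsKernel n (n + 1) (by simp))) this) (hKU' n)
  obtain ⟨G, φ, hG, -, hmono, hepi⟩ := CxApprox.approx_all R C K (fun e h => isCoh_of_iso e h)
    (fun M h => isCoh_of_isZero h) (fun M N hM hN => isCoh_X₂ _
      (ShortComplex.Splitting.ofHasBinaryBiproduct M N).shortExact hM hN) hcyc h₁ h₂ b hKb (b + 1 - (a - 2)).toNat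
  have hGh : ∀ i, Coh.IsCoh (G.homology i) := fun i =>
    isCoh_of_iso (IsColimit.coconePointUniqueUpToIso (cokernelIsCokernel _)
      (G.homologyIsCokernel (i - 1) i (by simp))) (isCoh_cokernel _ (hG (i - 1)).1 (hcyc G hG i))
  let G' : CochainComplex X.Modules ℤ := G.truncGE a
  have hπ : ∀ i, a ≤ i → IsIso (HomologicalComplex.homologyMap (G.πTruncGE a) i) := fun i hi => by
    haveI : QuasiIsoAt (G.πTruncGE a) i :=
      HomologicalComplex.quasiIsoAt_πTruncGE (K := G) (e := ComplexShape.embeddingUpIntGE a)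
        (j := (i - a).toNat) (by simp; omega)
    exact (quasiIsoAt_iff_isIso_homologyMap _ _).1 ‹_›
  have hG'z : ∀ i, (i < a ∨ max a b + 1 < i) → IsZero (G'.homology i) := by
    intro i hi
    rcases hi with hi | hi
    · exact HomologicalComplex.ExactAt.isZero_homology
        (HomologicalComplex.ExactAt.of_isZero (G'.isZero_of_isStrictlyGE a i hi))
    · haveI := hπ i (by omega)
      haveI := hmono i (by omega)
      exact (IsZero.of_mono (HomologicalComplex.homologyMap φ i) (hKb i (by omega))).of_iso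
        (asIso (HomologicalComplex.homologyMap (G.πTruncGE a) i)).symm
  let χ := φ ≫ K₀.ιTruncLE b
  have hχ : ∀ i, a ≤ i → IsIso (R.map (HomologicalComplex.homologyMap χ i)) := fun i hi => by
    haveI := hι i
    haveI := hmono i (by omega)
    haveI := hepi i (by omega)
    haveI : IsIso (R.map (HomologicalComplex.homologyMap φ i)) := isIso_of_mono_of_epi _
    rw [HomologicalComplex.homologyMap_comp, Functor.map_comp]
    infer_instance
  haveI : KU.IsGE a := (CochainComplex.isGE_iff _ _).2 fun i hi =>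
    (HomologicalComplex.exactAt_iff_isZero_homology _ _).2 ((DerivedCategory.isZero_of_isGE F a i hi).of_iso
      (((DerivedCategory.homologyFunctorFactors _ i).app KU).symm ≪≫ (DerivedCategory.homologyFunctor _ i).mapIso eU))
  let τ : G' ⟶ K₀.truncGE a := HomologicalComplex.truncGEMap χ (ComplexShape.embeddingUpIntGE a)
  have hτ : QuasiIso (Rc.map τ) := ⟨fun i => by
    rw [quasiIsoAt_iff_isIso_homologyMap]
    refine ((NatIso.isIso_map_iff (Iso.refl (HomologicalComplex.homologyFunctor _ _ i)) (Rc.map τ)).1 ?_)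
    by_cases hi : a ≤ i
    · haveI := hπ i hi
      haveI : QuasiIsoAt (K₀.πTruncGE a) i :=
        HomologicalComplex.quasiIsoAt_πTruncGE (K := K₀) (e := ComplexShape.embeddingUpIntGE a)
          (j := (i - a).toNat) (by simp; omega)
      haveI : IsIso (HomologicalComplex.homologyMap (K₀.πTruncGE a) i) :=
        (quasiIsoAt_iff_isIso_homologyMap _ _).1 ‹_›
      have e := congrArg (fun x => R.map x) ((HomologicalComplex.homologyMap_comp (G.πTruncGE a) τ i).symm.trans
        ((congrArg (HomologicalComplex.homologyMap · i)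
          (HomologicalComplex.πTruncGE_naturality χ (ComplexShape.embeddingUpIntGE a))).trans
            (HomologicalComplex.homologyMap_comp χ (K₀.πTruncGE a) i)))
      simp only [Functor.map_comp] at e
      haveI := hχ i hi
      haveI : IsIso (R.map (HomologicalComplex.homologyMap (G.πTruncGE a) i) ≫
          R.map (HomologicalComplex.homologyMap τ i)) := e ▸ inferInstance
      haveI : IsIso (R.map (HomologicalComplex.homologyMap τ i)) :=
        IsIso.of_isIso_comp_left (R.map (HomologicalComplex.homologyMap (G.πTruncGE a) i)) _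
      have en := ShortComplex.mapHomologyIso_hom_naturality
        ((HomologicalComplex.shortComplexFunctor X.Modules (ComplexShape.up ℤ) i).map τ) R
      haveI h2 : IsIso (HomologicalComplex.homologyMap (Rc.map τ) i ≫ (((K₀.truncGE a).sc i).mapHomologyIso R).hom) := by
        change IsIso (ShortComplex.homologyMap (R.mapShortComplex.map
          ((HomologicalComplex.shortComplexFunctor X.Modules (ComplexShape.up ℤ) i).map τ)) ≫ _)
        erw [en]
        exact @IsIso.comp_isIso _ _ _ _ _ _ _ inferInstance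
          (show IsIso (R.map (HomologicalComplex.homologyMap τ i)) from inferInstance)
      exact @IsIso.of_isIso_comp_right _ _ _ _ _ (HomologicalComplex.homologyMap (Rc.map τ) i)
        (((K₀.truncGE a).sc i).mapHomologyIso R).hom inferInstance h2
    · have h1 : ∀ Z : CochainComplex X.Modules ℤ, IsZero ((Rc.obj (Z.truncGE a)).homology i) := fun Z =>
        HomologicalComplex.ExactAt.isZero_homology (HomologicalComplex.ExactAt.of_isZero
          (R.map_isZero ((Z.truncGE a).isZero_of_isStrictlyGE a i (by omega))))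
      exact (h1 G).isIso (h1 K₀) _⟩
  have hπK : QuasiIso (Rc.map (K₀.πTruncGE a)) := ⟨fun i => by
    rw [quasiIsoAt_iff_isIso_homologyMap]
    by_cases hi : a ≤ i
    · haveI : QuasiIsoAt (K₀.πTruncGE a) i :=
        HomologicalComplex.quasiIsoAt_πTruncGE (K := K₀) (e := ComplexShape.embeddingUpIntGE a)
          (j := (i - a).toNat) (by simp; omega)
      haveI : QuasiIsoAt ((R.mapHomologicalComplex (ComplexShape.up ℤ)).map (K₀.πTruncGE a)) i := inferInstance
      exact (quasiIsoAt_iff_isIso_homologyMap _ _).1 ‹_›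
    · refine IsZero.isIso ?_ ?_ _
      · exact ((HomologicalComplex.exactAt_iff_isZero_homology _ _).1 (KU.exactAt_of_isGE a i (by omega))).of_iso
          ((HomologicalComplex.homologyFunctor _ _ i).mapIso e₀)
      · exact HomologicalComplex.ExactAt.isZero_homology (HomologicalComplex.ExactAt.of_isZero
          (R.map_isZero ((K₀.truncGE a).isZero_of_isStrictlyGE a i (by omega))))⟩
  haveI := hτ
  haveI := hπK
  haveI : IsIso (Q.map (Rc.map τ)) := (isIso_Q_map_iff_quasiIso _ _).2 hτ
  haveI : IsIso (Q.map (Rc.map (K₀.πTruncGE a))) := (isIso_Q_map_iff_quasiIso _ _).2 hπK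
  refine ⟨G', a, max a b + 1, fun i => ?_, ?_, ?_,
    ⟨asIso (Q.map (Rc.map τ)) ≪≫ (asIso (Q.map (Rc.map (K₀.πTruncGE a)))).symm ≪≫ Q.mapIso e₀ ≪≫ eU⟩⟩
  · refine isCoh_of_iso ((homologyFunctorFactors X.Modules i).app G').symm ?_
    by_cases hi : a ≤ i
    · haveI := hπ i hi
      exact isCoh_of_iso (@asIso _ _ _ _ (HomologicalComplex.homologyMap (G.πTruncGE a) i) (hπ i hi)) (hGh i)
    · exact isCoh_of_isZero (hG'z i (Or.inl (by omega)))
  · exact (DerivedCategory.isGE_iff _ _).2 fun i hi =>
      (hG'z i (Or.inl hi)).of_iso ((homologyFunctorFactors X.Modules i).app G')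
  · exact (DerivedCategory.isLE_iff _ _).2 fun i hi =>
      (hG'z i (Or.inr hi)).of_iso ((homologyFunctorFactors X.Modules i).app G')

end Groth.Agent.PerfDesc24
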