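import Groth.Agent.PerfDesc24.SubFFGen
import Groth.Agent.PerfDesc24.CohApprox
import Groth.Agent.FTors27.TorsCat
import Groth.Agent.QC70.CohOps

/-!
Bounded above objects with coherent cohomology in the derived category of quasi-coherent modules.
-/

set_option autoImplicit false
set_option backward.isDefEq.respectTransparency.types false
set_option linter.unusedSectionVars false

noncomputable section

universe u

open CategoryTheory Limits AlgebraicGeometry
open scoped ZeroObject
open Groth.Agent.QC70

attribute [local instance] HasDerivedCategory.standard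

namespace Groth.Agent.PerfDesc24.CohQCoh

variable (X : Scheme.{u})

/-- Quasi-coherent modules, as a property. -/
abbrev QP : ObjectProperty X.Modules := fun M => Coh.IsQCoh M

/-- Coherent modules, as a property. -/
abbrev CP : ObjectProperty X.Modules := fun M => Coh.IsCoh M

/-- The inclusion of coherent modules in quasi-coherent modules. -/
abbrev incl : (CP X).FullSubcategory ⥤ (QP X).FullSubcategory :=
  ObjectProperty.lift (QP X) (ObjectProperty.ι (CP X)) (fun M => M.property.1)

/-- Coherent objects among quasi-coherent modules. -/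
abbrev CQ : ObjectProperty (QP X).FullSubcategory := fun M => Coh.IsCoh M.obj

variable [(QP X).ContainsZero] [(QP X).IsClosedUnderKernels] [(QP X).IsClosedUnderCokernels]
  [(QP X).IsClosedUnderFiniteProducts]

theorem isSerreClass_CQ [IsNoetherian X] : (CQ X).IsSerreClass :=
  haveI := FTors27.preservesFiniteLimits_ι (QP X)
  haveI := FTors27.preservesFiniteColimits_ι (QP X)
  haveI : (CQ X).ContainsZero :=
    ⟨⟨⟨0, isQuasicoherent_of_isZero (isZero_zero _)⟩,
      (IsZero.iff_id_eq_zero _).2 ((QP X).ι.map_injective ((isZero_zero X.Modules).eq_of_src _ _)),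
      isCoh_of_isZero (isZero_zero _)⟩⟩
  haveI : (CQ X).IsClosedUnderSubobjects := ⟨fun {M N} f _ hN => by
    haveI : Mono ((QP X).ι.map f) := inferInstance
    exact isCoh_of_mono (M := M.obj) (N := N.obj) ((QP X).ι.map f) M.property hN⟩
  haveI : (CQ X).IsClosedUnderQuotients := ⟨fun {M N} f _ hM => by
    haveI : M.obj.IsQuasicoherent := M.property
    haveI : N.obj.IsQuasicoherent := N.property
    haveI : Epi ((QP X).ι.map f) := inferInstance
    let g : M.obj ⟶ N.obj := (QP X).ι.map f
    haveI : Epi g := ‹_›
    haveI := isQuasicoherent_kernel g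
    have hS : (ShortComplex.mk (kernel.ι g) g (kernel.condition g)).ShortExact :=
      { exact := ShortComplex.exact_of_f_is_kernel _ (kernelIsKernel _)
        mono_f := (inferInstance : Mono (kernel.ι g))
        epi_g := (inferInstance : Epi g) }
    exact isCoh_of_iso ((cokernelIsCokernel (kernel.ι g)).coconePointUniqueUpToIso hS.gIsCokernel)
      (isCoh_cokernel (kernel.ι g) (inferInstance : (kernel g).IsQuasicoherent) hM)⟩
  haveI : (CQ X).IsClosedUnderExtensions := ⟨fun {S} hS h₁ h₃ =>
    isCoh_X₂ (S.map (QP X).ι) (hS.map_of_exact (QP X).ι) h₁ h₃⟩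
  { }

variable [(CP X).ContainsZero] [(CP X).IsClosedUnderKernels] [(CP X).IsClosedUnderCokernels]
  [(CP X).IsClosedUnderFiniteProducts]

theorem equivalence [IsNoetherian X] [PreservesFiniteLimits (incl X)] [PreservesFiniteColimits (incl X)] :
    (∀ (M N : DerivedCategory (CP X).FullSubcategory) (b : ℤ), M.IsLE b → N.IsLE b →
      Function.Bijective (fun φ : M ⟶ N => (incl X).mapDerivedCategory.map φ)) ∧
    ∀ (K : DerivedCategory (QP X).FullSubcategory) (b : ℤ), K.IsLE b →
      (∀ i : ℤ, Coh.IsCoh ((DerivedCategory.homologyFunctor (QP X).FullSubcategory i).obj K).obj) →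
      ∃ M : DerivedCategory (CP X).FullSubcategory, M.IsLE b ∧
        Nonempty ((incl X).mapDerivedCategory.obj M ≅ K) := by
  haveI := isSerreClass_CQ X
  haveI := FTors27.preservesFiniteLimits_ι (QP X)
  haveI := FTors27.preservesFiniteColimits_ι (QP X)
  refine SubFFGen.equivalence_isLE (CQ X) (incl X) (fun M => M.property)
    (fun Y hY => ⟨⟨Y.obj, hY⟩, ⟨(QP X).fullyFaithfulι.preimageIso (Iso.refl _)⟩⟩) ?_
  intro M N π _ hN
  haveI : Epi ((QP X).ι.map π) := inferInstance
  obtain ⟨L, i, hi, hL, he⟩ := exists_coh_lift (M := M.obj) (N := N.obj) ((QP X).ι.map π) M.property hN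
  let L' : (QP X).FullSubcategory := ⟨L, hL.1⟩
  let i' : L' ⟶ M := (QP X).ι.preimage (X := L') (Y := M) i
  have h : (QP X).ι.map i' = i := (QP X).ι.map_preimage _
  refine ⟨L', i', (QP X).ι.mono_of_mono_map (by rw [h]; exact hi), hL, ?_⟩
  exact (QP X).ι.epi_of_epi_map (by rw [Functor.map_comp, h]; exact he)

end Groth.Agent.PerfDesc24.CohQCoh
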