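import Mathlib.Algebra.Homology.HomotopyCategory.HomComplexSingle
import Mathlib.Algebra.Homology.HomotopyCategory.MappingCone
import Mathlib.Algebra.Homology.Refinements
import Mathlib.CategoryTheory.Abelian.Images

/-!
Approximation of a complex by a complex with terms in a class `C`, injective on cohomology and surjective on
cohomology after an exact functor: descending induction on the degree by attaching one term at a time.
-/

set_option autoImplicit false
set_option backward.isDefEq.respectTransparency false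
set_option linter.unusedSectionVars false
set_option linter.style.haveILetI false

universe v u v' u'

open CategoryTheory Category Limits CochainComplex CochainComplex.HomComplex
open scoped ZeroObject

namespace Groth.Agent.PerfDesc24.CxApprox

variable {A : Type u} [Category.{v} A] [Abelian A] {B : Type u'} [Category.{v'} B] [Abelian B]

/-- An approximation of `K` down to degree `n`. -/
def Approx (R : A ⥤ B) (C : A → Prop) (K : CochainComplex A ℤ) (n : ℤ) : Prop :=
  ∃ (G : CochainComplex A ℤ) (φ : G ⟶ K), (∀ i, C (G.X i)) ∧ (∀ i, i < n → IsZero (G.X i)) ∧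
    (∀ i, n < i → Mono (HomologicalComplex.homologyMap φ i)) ∧
    (∀ i, n ≤ i → Epi (R.map (HomologicalComplex.homologyMap φ i)))

variable (R : A ⥤ B) [R.Additive] [PreservesFiniteLimits R] [PreservesFiniteColimits R]

theorem approx_step (C : A → Prop) (K : CochainComplex A ℤ)
    (hiso : ∀ {M N : A}, (M ≅ N) → C M → C N) (hzero : ∀ M : A, IsZero M → C M)
    (hbip : ∀ M N : A, C M → C N → C (M ⊞ N))
    (hcyc : ∀ (G : CochainComplex A ℤ), (∀ i, C (G.X i)) → ∀ i, C (G.cycles i))
    (h₁ : ∀ (p n : ℤ) (Z : A) (ψ : Z ⟶ K.X n), C Z → ∃ (L : A) (i : L ⟶ pullback (K.d p n) ψ),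
      C L ∧ Epi (i ≫ Abelian.factorThruImage (pullback.snd (K.d p n) ψ)))
    (h₂ : ∀ n, ∃ (L : A) (c : L ⟶ K.cycles n), C L ∧ Epi (R.map (c ≫ K.homologyπ n)))
    {n p : ℤ} (hp : p + 1 = n) (h : Approx R C K n) : Approx R C K p := by
  obtain ⟨G, φ, hC, hz, hmono, hepi⟩ := h
  obtain ⟨L₁, i₁, hL₁, hi₁⟩ := h₁ p n (G.cycles n) (G.iCycles n ≫ φ.f n) (hcyc G hC n)
  obtain ⟨L₂, c, hL₂, hc⟩ := h₂ p
  let D₁ := pullback.fst (K.d p n) (G.iCycles n ≫ φ.f n)
  let D₂ := pullback.snd (K.d p n) (G.iCycles n ≫ φ.f n)
  let h : L₁ ⊞ L₂ ⟶ K.X p := biprod.desc (i₁ ≫ D₁) (c ≫ K.iCycles p)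
  let f : L₁ ⊞ L₂ ⟶ G.X n := biprod.desc (i₁ ≫ D₂) 0 ≫ G.iCycles n
  let S : CochainComplex A ℤ := (singleFunctor A n).obj (L₁ ⊞ L₂)
  let u : S ⟶ G := HomologicalComplex.mkHomFromSingle f (fun k _ => by simp [f])
  have hu : u.f n = (HomologicalComplex.singleObjXSelf (.up ℤ) n (L₁ ⊞ L₂)).hom ≫ f :=
    HomologicalComplex.mkHomFromSingle_f f _
  have hhf : h ≫ K.d p n = f ≫ φ.f n := by
    apply biprod.hom_ext'
    · simp [h, f, D₁, D₂, pullback.condition]
    · simp [h, f]
  let α : Cochain S K (-1) := Cochain.fromSingleMk h (by omega : n + (-1) = p)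
  have eq : δ (-1) 0 α = Cochain.ofHom (u ≫ φ) := by
    rw [Cochain.δ_fromSingleMk h _ 0 n (add_zero n)]
    apply (Cochain.fromSingleEquiv (add_zero n)).injective
    rw [Cochain.fromSingleEquiv_fromSingleMk]
    simp [Cochain.fromSingleEquiv, hu, hhf, S, singleFunctor, singleFunctors]
  let φ' : (mappingCone u) ⟶ K := mappingCone.desc u α φ eq
  have hinr : mappingCone.inr u ≫ φ' = φ := mappingCone.inr_desc u α φ eq
  have hSz : ∀ i, i ≠ n → IsZero (S.X i) := fun i hi =>
    HomologicalComplex.isZero_single_obj_X _ _ _ _ hi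
  have hSC : ∀ i, C (S.X i) := fun i => by
    by_cases hi : i = n
    · subst hi
      exact hiso (HomologicalComplex.singleObjXSelf (.up ℤ) i (L₁ ⊞ L₂)).symm (hbip _ _ hL₁ hL₂)
    · exact hzero _ (hSz i hi)
  have hTX : ∀ i, C ((mappingCone u).X i) := fun i =>
    hiso (HomologicalComplex.homotopyCofiber.XIsoBiprod u i (i + 1) rfl).symm (hbip _ _ (hSC _) (hC i))
  have hTz : ∀ i, i < p → IsZero ((mappingCone u).X i) := fun i hi => by
    rw [IsZero.iff_id_eq_zero]
    exact mappingCone.ext_to u i (i + 1) rfl ((hSz (i + 1) (by omega)).eq_of_tgt _ _)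
      ((hz i (by omega)).eq_of_tgt _ _)
  have hiso' : ∀ i, n ≤ i → IsIso ((mappingCone.inr u).f i) := fun i hi =>
    ⟨(mappingCone.snd u).v i i (add_zero i), by simp, by
      apply mappingCone.ext_to u i (i + 1) rfl
      · exact (hSz (i + 1) (by omega)).eq_of_tgt _ _
      · simp⟩
  have hcyE : ∀ i, n ≤ i → Epi (HomologicalComplex.homologyMap (mappingCone.inr u) i) := fun i hi => by
    haveI := hiso' i hi
    haveI := hiso' (i + 1) (by omega)
    haveI : IsIso (HomologicalComplex.cyclesMap (mappingCone.inr u) i) :=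
      ⟨G.liftCycles ((mappingCone u).iCycles i ≫ inv ((mappingCone.inr u).f i)) (i + 1) (by simp) (by
          rw [← cancel_mono ((mappingCone.inr u).f (i + 1)), assoc, assoc, zero_comp,
            ← (mappingCone.inr u).comm i (i + 1), IsIso.inv_hom_id_assoc, HomologicalComplex.iCycles_d]), by
        simp [← cancel_mono (G.iCycles i), HomologicalComplex.cyclesMap_i_assoc], by
        simp [← cancel_mono ((mappingCone u).iCycles i)]⟩
    exact epi_of_epi_fac (HomologicalComplex.homologyπ_naturality (mappingCone.inr u) i)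
  refine ⟨(mappingCone u), φ', hTX, hTz, fun i hi => ?_, fun i hi => ?_⟩
  · have hφ : HomologicalComplex.homologyMap φ i =
        HomologicalComplex.homologyMap (mappingCone.inr u) i ≫ HomologicalComplex.homologyMap φ' i := by
      rw [← HomologicalComplex.homologyMap_comp, hinr]
    haveI := hcyE i (by omega)
    rcases eq_or_lt_of_le (show n ≤ i by omega) with rfl | hlt
    · refine Preadditive.mono_of_cancel_zero _ fun {W} w hw => ?_
      obtain ⟨W₁, π₁, _, x, hx⟩ :=
        surjective_up_to_refinements_of_epi (HomologicalComplex.homologyMap (mappingCone.inr u) n) w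
      obtain ⟨W₂, π₂, _, z, hzx⟩ := surjective_up_to_refinements_of_epi (G.homologyπ n) x
      have hz0 : (z ≫ HomologicalComplex.cyclesMap φ n) ≫ K.homologyπ n = 0 := by
        rw [assoc, ← HomologicalComplex.homologyπ_naturality, ← reassoc_of% hzx, hφ, ← reassoc_of% hx, hw,
          comp_zero, comp_zero]
      obtain ⟨W₃, π₃, _, k, hk⟩ :=
        (K.comp_homologyπ_eq_zero_iff_up_to_refinements p n (by simp; omega) _).1 hz0
      let e : W₃ ⟶ pullback (K.d p n) (G.iCycles n ≫ φ.f n) := pullback.lift k (π₃ ≫ z) (by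
        have := congrArg (· ≫ K.iCycles n) hk
        simpa using this.symm)
      obtain ⟨W₄, π₄, _, l, hl⟩ := surjective_up_to_refinements_of_epi (i₁ ≫ Abelian.factorThruImage D₂)
        (e ≫ Abelian.factorThruImage D₂)
      have hl' : π₄ ≫ π₃ ≫ z = l ≫ i₁ ≫ D₂ := by
        have := congrArg (· ≫ Abelian.image.ι D₂) hl
        simpa [e, D₂] using this
      let x₁ : W₄ ⟶ (mappingCone u).X p := (l ≫ biprod.inl ≫ (HomologicalComplex.singleObjXSelf (.up ℤ) n (L₁ ⊞ L₂)).inv) ≫
        (mappingCone.inl u).v n p (by omega)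
      have h0 : (π₄ ≫ π₃ ≫ z ≫ HomologicalComplex.cyclesMap (mappingCone.inr u) n) ≫ (mappingCone u).homologyπ n = 0 := by
        refine ((mappingCone u).comp_homologyπ_eq_zero_iff_up_to_refinements p n (by simp; omega) _).2
          ⟨W₄, 𝟙 _, inferInstance, x₁, ?_⟩
        rw [id_comp, ← cancel_mono ((mappingCone u).iCycles n)]
        simp only [assoc, HomologicalComplex.cyclesMap_i, HomologicalComplex.toCycles_i, x₁]
        rw [mappingCone.inl_v_d u n p (n + 1) (by omega) (by omega)]
        have hd : S.d n (n + 1) = 0 := (hSz (n + 1) (by omega)).eq_of_tgt _ _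
        rw [hd, zero_comp, sub_zero, hu]
        simp only [assoc, Iso.inv_hom_id_assoc, f, biprod.inl_desc_assoc]
        rw [reassoc_of% hl']
      rw [← cancel_epi π₁, comp_zero, hx, ← cancel_epi π₂, comp_zero, reassoc_of% hzx,
        HomologicalComplex.homologyπ_naturality, ← cancel_epi π₃, comp_zero, ← cancel_epi π₄, comp_zero]
      simpa only [assoc] using h0
    · haveI := hmono i hlt
      haveI : Mono (HomologicalComplex.homologyMap (mappingCone.inr u) i ≫
          HomologicalComplex.homologyMap φ' i) := hφ ▸ inferInstance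
      haveI := mono_of_mono (HomologicalComplex.homologyMap (mappingCone.inr u) i)
        (HomologicalComplex.homologyMap φ' i)
      haveI := isIso_of_mono_of_epi (HomologicalComplex.homologyMap (mappingCone.inr u) i)
      rw [show HomologicalComplex.homologyMap φ' i =
        inv (HomologicalComplex.homologyMap (mappingCone.inr u) i) ≫ HomologicalComplex.homologyMap φ i by simp [hφ]]
      infer_instance
  · rcases lt_or_ge i n with hlt | hge
    · obtain rfl : i = p := by omega
      let t : L₂ ⟶ (mappingCone u).X i := (biprod.inr ≫ (HomologicalComplex.singleObjXSelf (.up ℤ) n (L₁ ⊞ L₂)).inv) ≫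
        (mappingCone.inl u).v n i (by omega)
      have ht : t ≫ (mappingCone u).d i n = 0 := by
        simp only [t, assoc]
        rw [mappingCone.inl_v_d u n i (n + 1) (by omega) (by omega)]
        have hd : S.d n (n + 1) = 0 := (hSz (n + 1) (by omega)).eq_of_tgt _ _
        rw [hd, zero_comp, sub_zero, hu]
        simp [f]
      let c' : L₂ ⟶ (mappingCone u).cycles i := (mappingCone u).liftCycles t n (by simp; omega) ht
      have hc' : c' ≫ HomologicalComplex.cyclesMap φ' i = c := by
        rw [← cancel_mono (K.iCycles i), assoc, HomologicalComplex.cyclesMap_i,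
          HomologicalComplex.liftCycles_i_assoc]
        simp [t, φ', α, h]
      have e : R.map (c' ≫ (mappingCone u).homologyπ i) ≫ R.map (HomologicalComplex.homologyMap φ' i) =
          R.map (c ≫ K.homologyπ i) := by
        rw [← R.map_comp, assoc, HomologicalComplex.homologyπ_naturality, reassoc_of% hc']
      exact epi_of_epi_fac e
    · haveI := hepi i hge
      have e : R.map (HomologicalComplex.homologyMap (mappingCone.inr u) i) ≫
          R.map (HomologicalComplex.homologyMap φ' i) = R.map (HomologicalComplex.homologyMap φ i) := by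
        rw [← R.map_comp, ← HomologicalComplex.homologyMap_comp, hinr]
      exact epi_of_epi_fac e

/-- Approximations exist down to any degree. -/
theorem approx_all (C : A → Prop) (K : CochainComplex A ℤ)
    (hiso : ∀ {M N : A}, (M ≅ N) → C M → C N) (hzero : ∀ M : A, IsZero M → C M)
    (hbip : ∀ M N : A, C M → C N → C (M ⊞ N))
    (hcyc : ∀ (G : CochainComplex A ℤ), (∀ i, C (G.X i)) → ∀ i, C (G.cycles i))
    (h₁ : ∀ (p n : ℤ) (Z : A) (ψ : Z ⟶ K.X n), C Z → ∃ (L : A) (i : L ⟶ pullback (K.d p n) ψ),
      C L ∧ Epi (i ≫ Abelian.factorThruImage (pullback.snd (K.d p n) ψ)))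
    (h₂ : ∀ n, ∃ (L : A) (c : L ⟶ K.cycles n), C L ∧ Epi (R.map (c ≫ K.homologyπ n)))
    (b : ℤ) (hb : ∀ i, b < i → IsZero (K.homology i)) :
    ∀ k : ℕ, Approx R C K (b + 1 - k) := by
  intro k
  induction k with
  | zero =>
    have hz : ∀ i, IsZero ((0 : CochainComplex A ℤ).X i) := fun i =>
      (HomologicalComplex.eval A (ComplexShape.up ℤ) i).map_isZero (isZero_zero _)
    refine ⟨0, 0, fun i => hzero _ (hz i), fun i _ => hz i, fun i _ => ?_, fun i hi => ?_⟩
    · exact Preadditive.mono_of_cancel_zero _ fun w _ =>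
        (HomologicalComplex.ExactAt.isZero_homology (HomologicalComplex.ExactAt.of_isZero (hz i))).eq_of_tgt _ _
    · exact Preadditive.epi_of_cancel_zero _ fun w _ =>
        (R.map_isZero (hb i (by omega))).eq_of_src _ _
  | succ k ih => exact approx_step R C K hiso hzero hbip hcyc h₁ h₂ (by push_cast; omega) ih

end Groth.Agent.PerfDesc24.CxApprox
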