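import Groth.Agent.TorStalk41.Restrict
import Groth.Agent.RelPCSch41.FlatBC
import Groth.Agent.DR39.BC

/-!
Flat amplitude and vanishing descend along flat surjective morphisms.
-/

set_option autoImplicit false
set_option backward.isDefEq.respectTransparency false
set_option linter.style.haveILetI false
set_option linter.unusedSectionVars false

noncomputable section

universe u

open CategoryTheory Limits AlgebraicGeometry
open Groth.Agent.DR39 Groth.Agent.DCK91

attribute [local instance] HasDerivedCategory.standard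

namespace Groth.Agent.PerfDesc24

variable {X Y : Scheme.{u}} (f : X ⟶ Y) [Flat f]

theorem flat_stalk (x : X) : (f.stalkMap x).hom.Flat := Flat.stalkMap f x

theorem isZero_of_isZero_ext (x : X) (M : ModuleCat.{u} (Y.presheaf.stalk (f x)))
    (h : IsZero ((ModuleCat.extendScalars.{u, u, u} (f.stalkMap x).hom).obj M)) : IsZero M := by
  letI := (f.stalkMap x).hom.toAlgebra
  haveI : Module.Flat (Y.presheaf.stalk (f x)) (X.presheaf.stalk x) := Flat.stalkMap f x
  haveI : IsLocalHom (algebraMap (Y.presheaf.stalk (f x)) (X.presheaf.stalk x)) :=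
    inferInstanceAs (IsLocalHom (f.stalkMap x).hom)
  haveI : Module.FaithfullyFlat (Y.presheaf.stalk (f x)) (X.presheaf.stalk x) :=
    Module.FaithfullyFlat.of_flat_of_isLocalHom
  exact isZero_of_faithfullyFlat (X.presheaf.stalk x) M h

/-- Zero modules descend along flat surjective morphisms. -/
theorem isZero_of_pullback [Surjective f] (M : Y.Modules) (h : IsZero ((Scheme.Modules.pullback f).obj M)) :
    IsZero M := DCK91.isZero_of_stalks fun y => by
  obtain ⟨x, rfl⟩ := f.surjective y
  exact isZero_of_isZero_ext f x _ (((DCK91.SP x).map_isZero h).of_iso ((pullStalkIso f x).app M))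

/-- Upper bounds descend along flat surjective morphisms. -/
theorem isLE_of_Lpull [Surjective f] [DCoh.HasLpull f] (K : DCoh.D Y) (b : ℤ)
    (h : ((DCoh.Lpull f).obj K).IsLE b) : K.IsLE b := by
  let C : CochainComplex Y.Modules ℤ := DerivedCategory.Q.objPreimage K
  obtain ⟨e⟩ := RelPCSch41.nonempty_lpull_flat f C
  haveI := DCX42.preservesHomology_pullback f
  refine (DerivedCategory.isLE_iff K b).2 fun j hj => ?_
  refine IsZero.of_iso (isZero_of_pullback f (C.homology j) ?_)
    ((DerivedCategory.homologyFunctor Y.Modules j).mapIso (DerivedCategory.Q.objObjPreimageIso K).symm ≪≫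
      (DerivedCategory.homologyFunctorFactors Y.Modules j).app C)
  refine IsZero.of_iso ?_ ((C.sc j).mapHomologyIso (Scheme.Modules.pullback f)).symm
  exact ((DerivedCategory.isLE_iff _ b).1 h j hj).of_iso
    ((DerivedCategory.homologyFunctor X.Modules j).mapIso
        ((DCoh.Lpull f).mapIso (DerivedCategory.Q.objObjPreimageIso K).symm ≪≫ e) ≪≫
      (DerivedCategory.homologyFunctorFactors X.Modules j).app _).symm

/-- The stalkwise tor amplitude over the identity is the tor amplitude of stalks. -/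
theorem hasTorAmplitudeAt_id_iff {Z : Scheme.{u}} (G : CochainComplex Z.Modules ℤ) (z : Z) {a b : ℤ} :
    DerSch.HasTorAmplitudeAt (𝟙 Z) a b G z ↔ TA a b ((QA (Z.presheaf.stalk z)).obj ((DCK91.SPc z).obj G)) := by
  have key : ∀ {A : Type u} [CommRing A] (φ : A →+* A), φ = RingHom.id A → ∀ W : DRing.Cx A,
      TA a b ((QA A).obj (resCx φ W)) ↔ TA a b ((QA A).obj W) := by
    intro A _ φ hφ W
    subst hφ
    let e : resCx (RingHom.id A) W ≅ W :=
      HomologicalComplex.Hom.isoOfComponents (fun i => (ModuleCat.restrictScalarsId A).app (W.X i))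
        fun i j _ => ((ModuleCat.restrictScalarsId A).hom.naturality (W.d i j)).symm
    exact ⟨fun h => h.of_iso ((QA A).mapIso e), fun h => h.of_iso ((QA A).mapIso e.symm)⟩
  exact key (A := (Z.presheaf.stalk z : Type u)) ((𝟙 Z : Z ⟶ Z).stalkMap z).hom (TorStalk41.stalkMap_id_hom z)
    ((DCK91.SPc z).obj G)

/-- Stalkwise tor amplitude descends along flat surjective morphisms. -/
theorem hasTorAmplitude_id_descends [Surjective f] (C : CochainComplex Y.Modules ℤ) {a b : ℤ}
    (h : DerSch.HasTorAmplitude (𝟙 X) a b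
      (((Scheme.Modules.pullback f).mapHomologicalComplex (ComplexShape.up ℤ)).obj C)) :
    DerSch.HasTorAmplitude (𝟙 Y) a b C := fun y => by
  obtain ⟨x, rfl⟩ := f.surjective y
  rw [hasTorAmplitudeAt_id_iff]
  letI := (f.stalkMap x).hom.toAlgebra
  haveI : Module.Flat (Y.presheaf.stalk (f x)) (X.presheaf.stalk x) := Flat.stalkMap f x
  refine ta_descent (B := fun _ : Unit => (X.presheaf.stalk x : Type u))
    (fun M hM => isZero_of_isZero_ext f x M (hM ())) fun _ => ?_
  exact TA.of_iso ((hasTorAmplitudeAt_id_iff _ x).1 (h x)) ((QA _).mapIso (TorStalk41.stalkPullCxIso f x C).symm ≪≫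
    (DFQ (extA (Y.presheaf.stalk (f x)) (X.presheaf.stalk x)) ((DCK91.SPc (f x)).obj C)).symm)

/-- Flat amplitude gives stalkwise tor amplitude over the identity. -/
theorem hasTorAmplitude_of_flatAmp' {Z : Scheme.{u}} {a b : ℤ} {G : CochainComplex Z.Modules ℤ}
    (h : DCoh.HasFlatAmplitudeIn a b (DCoh.toD Z G)) : DerSch.HasTorAmplitude (𝟙 Z) a b G :=
  TorStalk41.hasTorAmplitude_of_flatAmp (𝟙 Z)
    (fun z => by rw [TorStalk41.stalkMap_id_hom]; exact RingHom.Flat.id _) h

/-- Flat amplitude descends along flat surjective morphisms. -/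
theorem flatAmp_descends [Surjective f] [DCoh.HasLpull f] (K : DCoh.D Y) {a b : ℤ}
    (h : DCoh.HasFlatAmplitudeIn a b ((DCoh.Lpull f).obj K)) : DCoh.HasFlatAmplitudeIn a b K := by
  let C : CochainComplex Y.Modules ℤ := DerivedCategory.Q.objPreimage K
  obtain ⟨e⟩ := RelPCSch41.nonempty_lpull_flat f C
  obtain ⟨F, hv, hf, ⟨i⟩⟩ := h
  have h' := hasTorAmplitude_id_descends f C (hasTorAmplitude_of_flatAmp'
    ⟨F, hv, hf, ⟨i ≪≫ (DCoh.Lpull f).mapIso (DerivedCategory.Q.objObjPreimageIso K).symm ≪≫ e⟩⟩)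
  obtain ⟨F', hv', hf', ⟨i'⟩⟩ := TorStalk41.flatAmp_of_hasTorAmplitude_id h'
  exact ⟨F', hv', hf', ⟨i' ≪≫ DerivedCategory.Q.objObjPreimageIso K⟩⟩

end Groth.Agent.PerfDesc24
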