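import Mathlib.Algebra.Homology.DerivedCategory.ExactFunctor
import Mathlib.Algebra.Homology.Additive
import Mathlib.Algebra.Homology.DerivedCategory.HomologySequence
import Mathlib.Algebra.Homology.ShortComplex.PreservesHomology

/-!
The functor induced on derived categories by a composite of exact functors.
-/

set_option autoImplicit false

noncomputable section

universe w₁ w₂ w₃ v₁ v₂ v₃ u₁ u₂ u₃

open CategoryTheory Limits DerivedCategory

namespace Groth.Agent.PerfDesc24

variable {A : Type u₁} [Category.{v₁} A] [Abelian A] [HasDerivedCategory.{w₁} A]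
  {B : Type u₂} [Category.{v₂} B] [Abelian B] [HasDerivedCategory.{w₂} B]
  {C : Type u₃} [Category.{v₃} C] [Abelian C] [HasDerivedCategory.{w₃} C]
  (F : A ⥤ B) [F.Additive] [PreservesFiniteLimits F] [PreservesFiniteColimits F]
  (G : B ⥤ C) [G.Additive] [PreservesFiniteLimits G] [PreservesFiniteColimits G]
  (H : A ⥤ C) [H.Additive] [PreservesFiniteLimits H] [PreservesFiniteColimits H]

/-- An isomorphism `F ⋙ G ≅ H` of exact functors induces one on derived categories. -/
def mapDComp (e : F ⋙ G ≅ H) : F.mapDerivedCategory ⋙ G.mapDerivedCategory ≅ H.mapDerivedCategory :=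
  let W := HomologicalComplex.quasiIso A (ComplexShape.up ℤ)
  letI : Localization.Lifting Q W
      ((F.mapHomologicalComplex _ ⋙ G.mapHomologicalComplex _) ⋙ Q) (F.mapDerivedCategory ⋙ G.mapDerivedCategory) :=
    ⟨(Functor.associator _ _ _).symm ≪≫ Functor.isoWhiskerRight F.mapDerivedCategoryFactors _ ≪≫
      Functor.associator _ _ _ ≪≫ Functor.isoWhiskerLeft _ G.mapDerivedCategoryFactors ≪≫ (Functor.associator _ _ _).symm⟩
  letI : Localization.Lifting Q W (H.mapHomologicalComplex _ ⋙ Q) H.mapDerivedCategory :=
    ⟨H.mapDerivedCategoryFactors⟩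
  Localization.liftNatIso Q W ((F.mapHomologicalComplex _ ⋙ G.mapHomologicalComplex _) ⋙ Q)
    (H.mapHomologicalComplex _ ⋙ Q) _ _
    (Functor.isoWhiskerRight (Functor.mapHomologicalComplexCompIso e _) Q)

omit [HasDerivedCategory A] [HasDerivedCategory B] in
/-- Homology commutes with an exact functor on complexes. -/
def mapHomologyNatIso (i : ℤ) :
    F.mapHomologicalComplex (ComplexShape.up ℤ) ⋙ HomologicalComplex.homologyFunctor B (ComplexShape.up ℤ) i ≅
      HomologicalComplex.homologyFunctor A (ComplexShape.up ℤ) i ⋙ F :=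
  NatIso.ofComponents (fun M => (M.sc i).mapHomologyIso F) fun φ => by
    exact ShortComplex.mapHomologyIso_hom_naturality
      ((HomologicalComplex.shortComplexFunctor A (ComplexShape.up ℤ) i).map φ) F

/-- Homology commutes with an exact functor on derived categories. -/
def homologyIso (i : ℤ) : F.mapDerivedCategory ⋙ homologyFunctor B i ≅ homologyFunctor A i ⋙ F :=
  Localization.liftNatIso Q (HomologicalComplex.quasiIso A (ComplexShape.up ℤ))
    (Q ⋙ F.mapDerivedCategory ⋙ homologyFunctor B i) (Q ⋙ homologyFunctor A i ⋙ F) _ _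
    ((Functor.associator _ _ _).symm ≪≫ Functor.isoWhiskerRight F.mapDerivedCategoryFactors _ ≪≫
      Functor.associator _ _ _ ≪≫ Functor.isoWhiskerLeft _ (homologyFunctorFactors B i) ≪≫ mapHomologyNatIso F i ≪≫
      Functor.isoWhiskerRight (homologyFunctorFactors A i).symm F ≪≫ Functor.associator _ _ _)

lemma isZero_homology_map (i : ℤ) (M : DerivedCategory A) (h : IsZero ((homologyFunctor A i).obj M)) :
    IsZero ((homologyFunctor B i).obj (F.mapDerivedCategory.obj M)) :=
  (F.map_isZero h).of_iso ((homologyIso F i).app M)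

end Groth.Agent.PerfDesc24
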