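import Groth.Agent.PerfDesc24.FlatAmp
import Groth.Agent.Desc59.FTDescArb
import Groth.Agent.FlatMor67.NilPC
import Groth.Agent.PerfAmp41.Main
import Groth.Agent.DCX42.Amp

/-!
Pseudo-coherence and perfectness descend along flat surjective quotient maps.
-/

set_option autoImplicit false
set_option backward.isDefEq.respectTransparency.types false
set_option linter.style.haveILetI false
set_option linter.unusedSectionVars false
set_option maxHeartbeats 1000000

noncomputable section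

universe u

open CategoryTheory Limits AlgebraicGeometry TopologicalSpace Opposite DerivedCategory
open CategoryTheory.Pretriangulated
open Groth.Agent.DCX42 Groth.Agent.RelPCSch41 Groth.Agent.DCK91
open Groth.Agent.QC70 Groth.Agent.Props58.LocFree Groth.Agent.Desc59

attribute [local instance] HasDerivedCategory.standard

namespace Groth.Agent.PerfDesc24

variable {X Y : Scheme.{u}}

/-- Finite type descends along flat quotient maps, for arbitrary modules. -/
theorem isFT_of_pullback_quot (f : X ⟶ Y) [Flat f] (hf : Topology.IsQuotientMap f.base) (F : Y.Modules)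
    (h : CohB1.IsFT ((Scheme.Modules.pullback f).obj F)) : CohB1.IsFT F := by
  haveI : ((Scheme.Modules.pullback f).obj F).IsFiniteType := h
  have key : ∀ y : Y, ∃ (V : Y.Opens) (ι : Type u) (_ : Fintype ι) (s : ι → Γ(F, V)),
      y ∈ V ∧ LocGenBy F V s := by
    intro y
    obtain ⟨x, rfl⟩ := hf.surjective y
    have := FTDescArb.finite_stalk_of_pullback f F x
    obtain ⟨n, e, he⟩ := Module.Finite.exists_fin (R := Y.presheaf.stalk (f x)) (M := F.presheaf.stalk (f x))
    obtain ⟨U, hU, s, hs⟩ := exists_lift_family (M := F) (f x) e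
    have h0 : Function.Surjective (germComb s (f x) hU) := fun z => by
      obtain ⟨c, hc⟩ := (Submodule.mem_span_range_iff_exists_fun _).mp (he.ge (Submodule.mem_top (x := z)))
      refine ⟨c, ?_⟩
      rw [← hc]
      exact Finset.sum_congr rfl fun i _ => by rw [hs]
    let T : Set Y := {y | ∃ hy : y ∈ U, Function.Surjective (germComb s y hy)}
    have hT : IsOpen T := by
      rw [← hf.isOpen_preimage, isOpen_iff_forall_mem_open]
      rintro z ⟨hz, hz'⟩
      obtain ⟨W, hW, hzW, hWs⟩ := exists_nhd_surjective (M := (Scheme.Modules.pullback f).obj F)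
        (fun i => FTDescArb.pullSec f F (s i)) hz ((FTDescArb.germComb_surjective_iff f F s z hz).mpr hz')
      exact ⟨W, fun w hw => ⟨hW hw, (FTDescArb.germComb_surjective_iff f F s w (hW hw)).mp (hWs w hw)⟩, W.2, hzW⟩
    let V : Y.Opens := ⟨T, hT⟩
    have hVU : V ≤ U := fun _ hy => hy.1
    have hV : ∀ y (hy : y ∈ V), Function.Surjective (germComb s y (hVU hy)) := fun _ hy => hy.2
    refine ⟨V, ULift.{u} (Fin n), inferInstance, fun i => res F hVU (s i.down), ⟨hU, h0⟩, ?_⟩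
    intro W₂ hW₂ z q hq
    obtain ⟨c, hc⟩ := hV q (hW₂ hq) (germM F W₂ q hq z)
    obtain ⟨W₀, hW₀, hqW₀, a, ha⟩ := exists_common_lift (U := W₂) hq c
    obtain ⟨W', hW', hqW', e'⟩ := exists_comb_eq (s := s) ((hW₀.trans hW₂).trans hVU) a
      (res F hW₀ z) hqW₀ (by rw [funext ha, germM_res]; exact hc)
    refine ⟨W', hW'.trans hW₀, (hW'.trans hW₀).trans hW₂, fun i => resO Y hW' (a i.down), hqW', ?_⟩
    rw [res_res] at e'
    refine e'.symm.trans ?_
    refine Fintype.sum_equiv Equiv.ulift.symm _ _ fun i => ?_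
    rw [res_res]
    rfl
  choose V ι fι s hy hs using key
  exact isFiniteType_of_locGenBy F V
    (IsOpenCover.mk (top_le_iff.mp fun y _ => Opens.mem_iSup.mpr ⟨y, hy y⟩))
    fun y => ⟨ι y, fι y, s y, hs y⟩

/-- Quotient maps restrict to opens of the target. -/
theorem isQuotientMap_morphismRestrict (f : X ⟶ Y) (hf : Topology.IsQuotientMap f.base) (V : Y.Opens) :
    Topology.IsQuotientMap (f ∣_ V).base := by
  rw [morphismRestrict_base]
  exact hf.restrictPreimage_isOpen V.2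

theorem surjective_of_quot (f : X ⟶ Y) (hf : Topology.IsQuotientMap f.base) : Surjective f := ⟨hf.surjective⟩

theorem isPC_descends_of_isLE (m : ℤ) (d : ℕ) : ∀ {X Y : Scheme.{u}} (i : X ⟶ Y) [Flat i]
    (_ : Topology.IsQuotientMap i.base) [DCoh.HasLpull i] (K : DCoh.D Y), K.IsLE (m - 1 + d) →
    DCoh.IsPseudoCoherentD m ((DCoh.Lpull i).obj K) → DCoh.IsPseudoCoherentD m K := by
  induction d with
  | zero => intro X Y i _ _ _ K hK _; exact isPC_of_isLE (by simpa using hK)
  | succ d ih =>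
    intro X Y i _ hi _ K hK hL
    have hb : K.IsLE (m + d) := by convert hK using 1; push_cast; omega
    obtain ⟨et⟩ := FlatMor67.NilPC.nonempty_top_Lpull i K (m + d) hb
    have hft : CohB1.IsFT (DCoh.HD K (m + d)) := isFT_of_pullback_quot i hi _ (isFT_of_iso' et
      (isFT_HD (isPC_mono (by omega) hL) fun j hj =>
        haveI := isLE_Lpull i hb
        DerivedCategory.isZero_of_isLE _ (m + d) j hj))
    refine DCX42.isPC_of_local fun x => ?_
    obtain ⟨V, n, α, hxV, hα⟩ := exists_top_map hb hft x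
    refine ⟨V, hxV, ?_⟩
    haveI := DCK91.hasLpull (i ∣_ V)
    obtain ⟨er⟩ := nonempty_Lpull_resD i V.ι (i ⁻¹ᵁ V).ι (i ∣_ V) (morphismRestrict_ι i V)
    have hLV : DCoh.IsPseudoCoherentD m ((DCoh.Lpull (i ∣_ V)).obj ((resD V.ι).obj K)) :=
      isPC_of_iso (er.app K) (DCX42.isPC_resD hL (i ⁻¹ᵁ V).ι)
    obtain ⟨C, β, γ, hT⟩ := distinguished_cocone_triangle α
    have hbV : ((resD V.ι).obj K).IsLE (m + d) := isLE_map (Scheme.Modules.restrictFunctor V.ι) hb
    have hpc : PCMap (m + d) α := ⟨fun j hj => by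
      have hKz : IsZero ((homologyFunctor _ j).obj ((resD V.ι).obj K)) :=
        haveI := hbV
        DerivedCategory.isZero_of_isLE _ (m + d) j hj
      exact (DerivedCategory.isZero_of_isLE _ (m + d) j hj).isIso hKz _, hα⟩
    have hC : C.IsLE (m - 1 + d) := by
      convert (pcMap_iff_isLE hT (m + d)).1 hpc using 1; omega
    have hE : ∀ k, DCoh.IsPseudoCoherentD k ((singleFunctor _ (m + d)).obj (FlatMod.freeMod (V : Scheme.{u}) n)) :=
      fun k => isPC_of_isPerfect (isPerfect_single (QC70.isFinLocFree_freeMod _ n) _) k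
    obtain ⟨T', hT', ⟨e₁⟩, ⟨e₂⟩, ⟨e₃⟩⟩ := exists_Lpull_triangle (i ∣_ V) _ hT
    have hC' : DCoh.IsPseudoCoherentD m ((DCoh.Lpull (i ∣_ V)).obj C) :=
      isPC_of_iso e₃ (isPC₃ _ hT' (isPC_of_iso e₁.symm (DCX42.isPC_Lpull _ (hE _))) (isPC_of_iso e₂.symm hLV))
    exact isPC₂ _ hT (hE m) (ih (i ∣_ V) (isQuotientMap_morphismRestrict i hi V) C hC hC')

/-- Pseudo-coherence descends along flat quotient maps, given local bounds. -/
theorem isPC_descends (f : X ⟶ Y) [Flat f] (hf : Topology.IsQuotientMap f.base) [DCoh.HasLpull f]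
    {m : ℤ} {K : DCoh.D Y} (h : DCoh.IsPseudoCoherentD m ((DCoh.Lpull f).obj K))
    (hbd : ∀ y : Y, ∃ (W : Scheme.{u}) (V : Y.Opens) (g : W ⟶ V) (b : ℤ) (j : W ⟶ X) (_ : IsOpenImmersion j),
      y ∈ V ∧ g ≫ V.ι = j ≫ f ∧ Topology.IsQuotientMap g.base ∧ Flat g ∧ m ≤ b + 1 ∧
        ((resD j).obj ((DCoh.Lpull f).obj K)).IsLE b) :
    DCoh.IsPseudoCoherentD m K := by
  refine DCX42.isPC_of_local fun y => ?_
  obtain ⟨W, V, g, b, j, hj, hyV, hsq, hg, hgf, hmb, hb⟩ := hbd y
  refine ⟨V, hyV, ?_⟩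
  haveI := DCK91.hasLpull g
  haveI := surjective_of_quot g hg
  obtain ⟨er⟩ := nonempty_Lpull_resD f V.ι j g hsq
  have hbW : ((DCoh.Lpull g).obj ((resD V.ι).obj K)).IsLE b := by
    haveI : TStructure.t.IsLE ((DCoh.Lpull f ⋙ resD j).obj K) b := hb
    exact TStructure.t.isLE_of_iso (er.app K) b
  refine isPC_descends_of_isLE m (b + 1 - m).toNat g hg _ ?_ (isPC_of_iso (er.app K) (DCX42.isPC_resD h j))
  convert isLE_of_Lpull g _ b hbW using 1
  omega

/-- A uniform bound on a quasi-compact open. -/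
theorem exists_isLE_of_compact {m : ℤ} {L : DCoh.D X} (h : DCoh.IsPseudoCoherentD m L) (A : X.Opens)
    (hA : IsCompact (A : Set X)) : ∃ b : ℤ, m ≤ b + 1 ∧ ((resD A.ι).obj L).IsLE b := by
  haveI : CompactSpace (A : Scheme.{u}) := isCompact_iff_compactSpace.1 hA
  obtain ⟨b, hb⟩ := exists_isLE_of_isPC (DCX42.isPC_resD h A.ι)
  refine ⟨max b m, by omega, (DerivedCategory.isLE_iff _ _).2 fun i hi => ?_⟩
  exact (DerivedCategory.isLE_iff _ b).1 hb i (by omega)

/-- Pseudo-coherence descends along flat surjective quasi-compact morphisms. -/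
theorem isPC_descends_qc (f : X ⟶ Y) [Flat f] [Surjective f] [QuasiCompact f] [DCoh.HasLpull f]
    {m : ℤ} {K : DCoh.D Y} (h : DCoh.IsPseudoCoherentD m ((DCoh.Lpull f).obj K)) :
    DCoh.IsPseudoCoherentD m K := by
  refine isPC_descends f (Flat.isQuotientMap_of_surjective f) h fun y => ?_
  obtain ⟨V, hV, hyV, -⟩ := exists_isAffineOpen_mem_and_subset (x := y) (U := (⊤ : Y.Opens)) trivial
  obtain ⟨b, hmb, hb⟩ := exists_isLE_of_compact h (f ⁻¹ᵁ V) (f.isCompact_preimage hV.isCompact)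
  exact ⟨_, V, f ∣_ V, b, (f ⁻¹ᵁ V).ι, inferInstance, hyV, morphismRestrict_ι f V,
    isQuotientMap_morphismRestrict f (Flat.isQuotientMap_of_surjective f) V, inferInstance, hmb, hb⟩

/-- Pseudo-coherence descends along flat surjective open morphisms. -/
theorem isPC_descends_isOpenMap (f : X ⟶ Y) [Flat f] [Surjective f] (ho : IsOpenMap f.base) [DCoh.HasLpull f]
    {m : ℤ} {K : DCoh.D Y} (h : DCoh.IsPseudoCoherentD m ((DCoh.Lpull f).obj K)) :
    DCoh.IsPseudoCoherentD m K := by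
  refine isPC_descends f (ho.isQuotientMap f.continuous f.surjective) h fun y => ?_
  obtain ⟨x, rfl⟩ := f.surjective y
  obtain ⟨A, b, hxA, hmb, hA⟩ := exists_isLE_nhd h x
  let V : Y.Opens := ⟨f.base '' A, ho _ A.2⟩
  have hle : A ≤ f ⁻¹ᵁ V := fun z hz => ⟨z, hz, rfl⟩
  refine ⟨A, V, f.resLE V A hle, b, A.ι, inferInstance, ⟨x, hxA, rfl⟩, f.resLE_comp_ι hle, ?_, inferInstance,
    by omega, hA⟩
  refine IsOpenMap.isQuotientMap (fun s hs => ?_) (f.resLE V A hle).continuous ?_
  · have h1 : IsOpen (f.base '' (A.ι '' s)) := ho _ (A.ι.isOpenEmbedding.isOpenMap _ hs)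
    have h2 : f.base '' (A.ι '' s) = V.ι '' ((f.resLE V A hle).base '' s) := by
      rw [← Set.image_comp, ← Set.image_comp]
      refine Set.image_congr fun z _ => ?_
      exact congr($((f.resLE_comp_ι hle).symm).base z)
    exact V.ι.isOpenEmbedding.isOpen_iff_image_isOpen.2 (h2 ▸ h1)
  · rintro ⟨_, z, hz, rfl⟩
    exact ⟨⟨z, hz⟩, Subtype.ext (congr($(f.resLE_comp_ι hle).base ⟨z, hz⟩))⟩

/-- A perfect object on a quasi-compact scheme has finite flat amplitude. -/
theorem exists_flatAmp_of_isPerfect' [CompactSpace X] {M : DCoh.D X} (hM : DCoh.IsPerfect M) :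
    ∃ a b : ℤ, DCoh.HasFlatAmplitudeIn a b M := by
  choose V hx E hE e using (DCX42.isPerfect_iff M).mp hM
  choose a b hab using fun x => (hE x).1
  obtain ⟨t, ht⟩ := IsCompact.elim_finite_subcover isCompact_univ (fun x => (V x : Set X))
    (fun x => (V x).2) fun x _ => Set.mem_iUnion.mpr ⟨x, hx x⟩
  obtain ⟨A, hA⟩ := (t.finite_toSet.image a).bddBelow
  obtain ⟨B, hB⟩ := (t.finite_toSet.image b).bddAbove
  refine ⟨A, max A B, PerfAmp41.flatAmp_of_perfAmp (le_max_left _ _) ((PerfAmp41.isPerfAmp_iff _ _ M).2 fun y => ?_)⟩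
  obtain ⟨x, hxt, hy⟩ := Set.mem_iUnion₂.mp (ht (Set.mem_univ y))
  refine ⟨V x, hy, E x, fun i hi => hab x i ?_, (hE x).2, e x⟩
  have h1 := hA ⟨x, hxt, rfl⟩
  have h2 := hB ⟨x, hxt, rfl⟩
  omega

/-- Perfectness descends along flat surjective quasi-compact morphisms. -/
theorem isPerfect_descends (f : X ⟶ Y) [Flat f] [Surjective f] [QuasiCompact f] [DCoh.HasLpull f]
    {K : DCoh.D Y} (h : DCoh.IsPerfect ((DCoh.Lpull f).obj K)) : DCoh.IsPerfect K := by
  refine isPerfect_of_cover K fun y => ?_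
  obtain ⟨V, hV, hyV, -⟩ := exists_isAffineOpen_mem_and_subset (x := y) (U := (⊤ : Y.Opens)) trivial
  refine ⟨_, V.ι, inferInstance, ⟨⟨y, hyV⟩, rfl⟩, ?_⟩
  haveI : CompactSpace (f ⁻¹ᵁ V : Scheme.{u}) :=
    isCompact_iff_compactSpace.1 (f.isCompact_preimage hV.isCompact)
  haveI := DCK91.hasLpull (f ∣_ V)
  haveI := surjective_of_quot _ (isQuotientMap_morphismRestrict f (Flat.isQuotientMap_of_surjective f) V)
  obtain ⟨er⟩ := nonempty_Lpull_resD f V.ι (f ⁻¹ᵁ V).ι (f ∣_ V) (morphismRestrict_ι f V)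
  obtain ⟨a, b, hab⟩ := exists_flatAmp_of_isPerfect' (isPerfect_of_iso (er.app K) (isPerfect_resD h (f ⁻¹ᵁ V).ι))
  exact isPerfect_of_flatAmp (flatAmp_descends (f ∣_ V) _ hab)
    (DCX42.isPC_resD (isPC_descends_qc f (isPC_of_isPerfect h _)) V.ι)

end Groth.Agent.PerfDesc24
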