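import Groth.Agent.CohDer42.SubFF

/-!
# Derived categories of Serre classes presented as full subcategories
-/

universe w w' v v' u u'

open CategoryTheory Category Limits HomologicalComplex Opposite

set_option autoImplicit false
set_option linter.unusedSectionVars false
set_option backward.isDefEq.respectTransparency false

namespace Groth.Agent.PerfDesc24.SubFFGen

open CohDer42 CohDer42.SubFF

variable {A : Type u} [Category.{v} A] [Abelian A] (P : ObjectProperty A) [P.IsSerreClass]

variable {A' : Type u'} [Category.{v'} A'] [Abelian A'] (F : A' ⥤ A) [F.Additive] [F.Full] [F.Faithful]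
  [PreservesFiniteLimits F] [PreservesFiniteColimits F] (hF : ∀ X, P (F.obj X)) (hess : ∀ Y, P Y → F.essImage Y)
  (hlift : ∀ (X Y : A) (π : X ⟶ Y), Epi π → P Y → ∃ (X' : A) (i : X' ⟶ X), Mono i ∧ P X' ∧ Epi (i ≫ π))


include hlift hess in
theorem exists_left_subResolution (K : CochainComplex A ℤ) (b : ℤ)
    (hb : ∀ i, b < i → IsZero (K.homology i)) (hK : ∀ i, P (K.homology i)) :
    ∃ (M : CochainComplex A' ℤ) (α : ((F.mapHomologicalComplex (ComplexShape.up ℤ))).obj M ⟶ K), M.IsStrictlyLE b ∧ QuasiIso α := by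
  have : (negOp K).IsGE (-b) := by
    rw [CochainComplex.isGE_iff]
    intro i hi
    exact (exactAt_iff_isZero_homology _ _).2
      ((hb (-i) (by omega)).op.of_iso (nonempty_negOp_homology K i).some)
  obtain ⟨L, α, _, hLP, _⟩ := exists_subResolution' (negOp K) (subResHyp_op P hlift) (-b)
    (fun i => P.prop_of_iso (nonempty_negOp_homology K i).some.unop (hK (-i)))
  let M₀ := negUnop L
  have hM₀ : ∀ n, F.essImage (M₀.X n) := fun n => hess _ (hLP (-n))
  obtain ⟨M, ⟨e⟩⟩ := exists_lift_complex F M₀ hM₀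
  have := quasiIso_negUnopMap α
  refine ⟨M, e.hom ≫ negUnopMap α ≫ (negUnopNegOpIso K).hom, ?_, inferInstance⟩
  rw [CochainComplex.isStrictlyLE_iff]
  intro i hi
  exact isZero_of_isZero_map F
    (((L.isZero_of_isStrictlyGE (-b) (-i) (by omega)).unop).of_iso ((HomologicalComplex.eval _ _ i).mapIso e))

variable [HasDerivedCategory.{w} A] [HasDerivedCategory.{w'} A']

open DerivedCategory

include hF in
lemma hom_props {M : CochainComplex A' ℤ} {Z : CochainComplex A ℤ} (s : Z ⟶ ((F.mapHomologicalComplex (ComplexShape.up ℤ))).obj M)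
    [QuasiIso s] (b : ℤ) (hb : ∀ i, b < i → IsZero (M.homology i)) :
    (∀ i, b < i → IsZero (Z.homology i)) ∧ ∀ i, P (Z.homology i) := by
  have e : ∀ i, Z.homology i ≅ F.obj (M.homology i) := fun i =>
    isoOfQuasiIsoAt s i ≪≫ (M.sc i).mapHomologyIso F
  exact ⟨fun i hi => (F.map_isZero (hb i hi)).of_iso (e i),
    fun i => P.prop_of_iso (e i).symm (hF _)⟩

include hlift hF hess in
theorem bijective_isLE (X Y : DerivedCategory A') (b : ℤ) [X.IsLE b] :
    Function.Bijective (fun φ : X ⟶ Y => F.mapDerivedCategory.map φ) := by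
  obtain ⟨M, _, ⟨eM⟩⟩ := exists_iso_Q_obj_of_isLE X b
  let N := (Q : CochainComplex A' ℤ ⥤ _).objPreimage Y
  refine bijective_of_iso _ eM ((Q : CochainComplex A' ℤ ⥤ _).objObjPreimageIso Y).symm ?_
  have hM : ∀ i, b < i → IsZero (M.homology i) := fun i hi =>
    (exactAt_iff_isZero_homology _ _).1 (M.exactAt_of_isLE b i hi)
  let Fac := F.mapDerivedCategoryFactors
  constructor
  · intro φ₁ φ₂ h12
    rw [← sub_eq_zero]
    have h0 : F.mapDerivedCategory.map (φ₁ - φ₂) = 0 := by
      rw [Functor.map_sub]; exact sub_eq_zero.2 h12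
    obtain ⟨X', s, hs, g, hφ⟩ := right_fac (φ₁ - φ₂)
    rw [hφ] at h0 ⊢
    rw [Functor.map_comp, Preadditive.IsIso.comp_left_eq_zero, map_Q_map,
      Preadditive.IsIso.comp_left_eq_zero, Preadditive.IsIso.comp_right_eq_zero] at h0
    have h1 : Qh.map ((HomotopyCategory.quotient A _).map (((F.mapHomologicalComplex (ComplexShape.up ℤ))).map g)) =
        Qh.map ((HomotopyCategory.quotient A _).map 0) :=
      Qh_quotient_map_eq (by rw [h0, Functor.map_zero])
    obtain ⟨Z, t, ht, htg⟩ := (MorphismProperty.map_eq_iff_precomp Qh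
      (HomotopyCategory.quasiIso A (ComplexShape.up ℤ)) _ _).1 h1
    obtain ⟨Z, rfl⟩ := HomotopyCategory.quotient_obj_surjective Z
    obtain ⟨t, rfl⟩ := (HomotopyCategory.quotient A _).map_surjective t
    rw [← isIso_Qh_map_iff] at ht
    have : IsIso (Q.map t) := (NatIso.isIso_map_iff (quotientCompQhIso A) t).1 ht
    rw [isIso_Q_map_iff_quasiIso] at this hs
    have hX' : ∀ i, b < i → IsZero (X'.homology i) := fun i hi =>
      (hM i hi).of_iso (isoOfQuasiIsoAt s i)
    obtain ⟨hb, hP⟩ := hom_props P F hF t b hX'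
    obtain ⟨M', α, _, _⟩ := exists_left_subResolution P F hess hlift Z b hb hP
    obtain ⟨t', ht'⟩ := exists_preimage_hom F (α ≫ t)
    have hqt : QuasiIso t' := by
      have : QuasiIso (((F.mapHomologicalComplex (ComplexShape.up ℤ))).map t') := by rw [ht']; infer_instance
      exact (quasiIso_map_iff_of_preservesHomology t' F).1 this
    have h2 : Homotopy (((F.mapHomologicalComplex (ComplexShape.up ℤ))).map (t' ≫ g)) (((F.mapHomologicalComplex (ComplexShape.up ℤ))).map 0) := HomotopyCategory.homotopyOfEq _ _ (by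
      rw [Functor.map_comp ((F.mapHomologicalComplex (ComplexShape.up ℤ))), ht', assoc, Functor.map_comp, Functor.map_comp, htg,
        Functor.map_zero ((F.mapHomologicalComplex (ComplexShape.up ℤ)))]
      simp)
    have h3 := Q_map_eq_of_homotopy (homotopyPreimage F h2)
    rw [Functor.map_comp, Functor.map_zero] at h3
    have : IsIso (Q.map t') := (isIso_Q_map_iff_quasiIso _ _).2 hqt
    rw [(Preadditive.IsIso.comp_left_eq_zero _ _).1 h3, comp_zero]
  · intro ψ
    obtain ⟨Z, s, hs, g, hψ⟩ := right_fac (Fac.inv.app M ≫ ψ ≫ Fac.hom.app N)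
    rw [isIso_Q_map_iff_quasiIso] at hs
    obtain ⟨hb, hP⟩ := hom_props P F hF s b hM
    obtain ⟨M', α, _, _⟩ := exists_left_subResolution P F hess hlift Z b hb hP
    obtain ⟨s', hs'⟩ := exists_preimage_hom F (α ≫ s)
    obtain ⟨g', hg'⟩ := exists_preimage_hom F (α ≫ g)
    have : QuasiIso s' := by
      have : QuasiIso (((F.mapHomologicalComplex (ComplexShape.up ℤ))).map s') := by rw [hs']; infer_instance
      exact (quasiIso_map_iff_of_preservesHomology s' F).1 this
    refine ⟨inv (Q.map s') ≫ Q.map g', ?_⟩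
    change F.mapDerivedCategory.map _ = ψ
    have : IsIso (Q.map s) := (isIso_Q_map_iff_quasiIso _ _).2 hs
    rw [← cancel_epi (F.mapDerivedCategory.map (Q.map s')), ← Functor.map_comp, IsIso.hom_inv_id_assoc,
      map_Q_map, map_Q_map, hs', hg', Functor.map_comp, Functor.map_comp]
    have hψ' : Q.map g = Q.map s ≫ Fac.inv.app M ≫ ψ ≫ Fac.hom.app N := by
      rw [hψ, IsIso.hom_inv_id_assoc]
    simp only [hψ', assoc, Fac, N]
    simp


include hlift hF hess in
theorem equivalence_isLE :
    (∀ (M N : DerivedCategory A') (b : ℤ), M.IsLE b → N.IsLE b →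
      Function.Bijective (fun φ : M ⟶ N => F.mapDerivedCategory.map φ)) ∧
    ∀ (K : DerivedCategory A) (b : ℤ), K.IsLE b → (∀ n : ℤ, P ((DerivedCategory.homologyFunctor A n).obj K)) →
      ∃ M : DerivedCategory A', M.IsLE b ∧ Nonempty (F.mapDerivedCategory.obj M ≅ K) := by
  refine ⟨fun M N b hM _ => bijective_isLE P F hF hess hlift M N b, fun K b hb hK => ?_⟩
  obtain ⟨K₀, _, ⟨e⟩⟩ := DerivedCategory.exists_iso_Q_obj_of_isLE K b
  obtain ⟨M, α, _, _⟩ := exists_left_subResolution P F hess hlift K₀ b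
    (fun i hi => (HomologicalComplex.exactAt_iff_isZero_homology _ _).1 (K₀.exactAt_of_isLE b i hi))
    (fun i => P.prop_of_iso ((DerivedCategory.homologyFunctor A i).mapIso e ≪≫
      (DerivedCategory.homologyFunctorFactors A i).app K₀) (hK i))
  exact ⟨DerivedCategory.Q.obj M, (DerivedCategory.isLE_Q_obj_iff M b).2 inferInstance,
    ⟨F.mapDerivedCategoryFactors.app M ≪≫ asIso (DerivedCategory.Q.map α) ≪≫ e.symm⟩⟩

end Groth.Agent.PerfDesc24.SubFFGen
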